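import Groth.Agent.Lib.ProjGlue.Veronese
import Groth.Agent.Lib.H70.DomMap
import Groth.Agent.Lib.ProjTilde.QCoh

/-!
# Graded modules and Veronese subrings: `M~ = i^* (M^{(d)})~`
-/

set_option linter.style.haveILetI false
set_option linter.unusedSectionVars false

noncomputable section

universe u

open CategoryTheory AlgebraicGeometry TopologicalSpace Opposite HomogeneousLocalization
open Groth.Agent.Lib

namespace Groth.Agent.Lib.Veronese33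

variable {R A B : Type u} [CommRing R] [CommRing A] [Algebra R A] [CommRing B] [Algebra R B]
  {𝒜 : ℕ → Submodule R A} [GradedAlgebra 𝒜] {ℬ : ℕ → Submodule R B} [GradedAlgebra ℬ]
  (φ : B →+* A) {d : ℕ} (hφ : ∀ n, ∀ b ∈ ℬ n, φ b ∈ 𝒜 (n * d)) (hd : 0 < d)
  (hsurj : ∀ n, ∀ a ∈ 𝒜 (n * d), ∃ b ∈ ℬ n, φ b = a) (hinj : Function.Injective φ)
  {e : Proj 𝒜 ≅ Proj ℬ}
  (he : ∀ (i : ℕ) (b : B) (hi : 0 < i) (hb : b ∈ ℬ i),
    Proj.awayι 𝒜 (φ b) (hφ i b hb) (Nat.mul_pos hi hd) ≫ e.hom =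
      Spec.map (CommRingCat.ofHom (ProjGlue.theta φ hφ hb)) ≫ Proj.awayι ℬ b hb hi)

variable (e) in
/-- The image of a point, as a homogeneous prime. -/
abbrev pt (p : ProjectiveSpectrum 𝒜) : ProjectiveSpectrum ℬ := e.hom p

variable (e) in
/-- The preimage of an open. -/
abbrev preU (U : Opens (ProjectiveSpectrum.top ℬ)) : Opens (ProjectiveSpectrum.top 𝒜) := e.hom ⁻¹ᵁ U

include hd hsurj hinj he in
theorem ideal_eq (p : ProjectiveSpectrum 𝒜) :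
    (pt e p).asHomogeneousIdeal.toIdeal = p.asHomogeneousIdeal.toIdeal.comap φ := by
  obtain ⟨e', he', hch⟩ := ProjGlue.Veronese.exists_iso (𝒜 := 𝒜) (ℬ := ℬ) φ hφ hd hinj hsurj
  suffices h : e.hom = e'.hom by
    show (e.hom p).asHomogeneousIdeal.toIdeal = _
    rw [h]; exact he' p
  let I := Σ i : ℕ, {b : B // 0 < i ∧ b ∈ ℬ i}
  let 𝒰 : (Proj 𝒜).OpenCover := .mkOfCovers I (fun q => Spec (.of (Away 𝒜 (φ q.2.1))))
    (fun q => Proj.awayι 𝒜 (φ q.2.1) (hφ _ _ q.2.2.2) (Nat.mul_pos q.2.2.1 hd))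
    (fun x => by
      obtain ⟨⟨b, i, hi, hb⟩, hxb⟩ := Opens.mem_iSup.1
        ((ProjGlue.Veronese.dom_eq_top (𝒜 := 𝒜) (ℬ := ℬ) φ hsurj hd).ge (Opens.mem_top x))
      rw [← Proj.opensRange_awayι 𝒜 (φ b) (hφ _ _ hb) (Nat.mul_pos hi hd)] at hxb
      obtain ⟨y, hy⟩ := hxb
      exact ⟨⟨i, b, hi, hb⟩, y, hy⟩)
    (fun _ => inferInstance)
  refine 𝒰.hom_ext _ _ fun q => ?_
  exact (he q.1 q.2.1 q.2.2.1 q.2.2.2).trans (hch q.1 q.2.1 q.2.2.1 q.2.2.2).symm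

variable (hpt : ∀ p : ProjectiveSpectrum 𝒜,
  (pt e p).asHomogeneousIdeal.toIdeal = p.asHomogeneousIdeal.toIdeal.comap φ)

include hpt in
theorem mem_iff (p : ProjectiveSpectrum 𝒜) (b : B) :
    b ∈ (pt e p).asHomogeneousIdeal ↔ φ b ∈ p.asHomogeneousIdeal :=
  SetLike.ext_iff.mp (hpt p) b

include hd he hpt in
theorem val_app {U : (Proj ℬ).Opens} (r : Γ(Proj ℬ, U)) (p : ProjectiveSpectrum 𝒜) (hp : e.hom p ∈ U) :
    ((e.hom.app U r : Twist.O (𝒜 := 𝒜) (op (e.hom ⁻¹ᵁ U))).1 ⟨p, hp⟩).val =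
      Localization.localRingHom _ _ φ (hpt p) ((r : Twist.O (𝒜 := ℬ) (op U)).1 ⟨pt e p, hp⟩).val := by
  obtain ⟨m, hm, g, hg, hgy, hgU⟩ : ∃ m, 0 < m ∧ ∃ g ∈ ℬ m, (e.hom p) ∈ Proj.basicOpen ℬ g ∧
      Proj.basicOpen ℬ g ≤ U := by
    obtain ⟨k, h, hk, hxh, hhU⟩ := ProjTilde.Frac.exists_homog_basicOpen_le U (pt e p) hp
    obtain ⟨l, hl, g, hg, hgy⟩ : ∃ l, 0 < l ∧ ∃ g ∈ ℬ l, g ∉ (pt e p).asHomogeneousIdeal := by
      by_contra hne
      push Not at hne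
      exact (pt e p).not_irrelevant_le ((HomogeneousIdeal.irrelevant_le ℬ).mpr hne)
    exact ⟨k + l, by omega, h * g, SetLike.mul_mem_graded hk hg,
      fun hh => ((pt e p).isPrime.mem_or_mem hh).elim hxh hgy,
      fun z hz => hhU fun hh => hz (Ideal.mul_mem_right _ _ hh)⟩
  obtain ⟨a, ha⟩ : ∃ a, Proj.awayToSection ℬ g a = (Proj ℬ).presheaf.map (homOfLE hgU).op r :=
    (ConcreteCategory.bijective_of_isIso (Proj.basicOpenIsoAway ℬ g hg hm).hom).2 _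
  have hpre : e.hom ⁻¹ᵁ Proj.basicOpen ℬ g = Proj.basicOpen 𝒜 (φ g) :=
    Opens.ext (Set.ext fun x => not_congr (mem_iff φ hpt x g))
  have h1 : e.hom.app (Proj.basicOpen ℬ g) (Proj.awayToSection ℬ g a) =
      (Proj 𝒜).presheaf.map (homOfLE hpre.le).op (Proj.awayToSection 𝒜 (φ g) (ProjGlue.theta φ hφ hg a)) := by
    let gA := hφ m g hg
    let md := Nat.mul_pos hm hd
    let c := Proj.awayι 𝒜 (φ g) gA md
    have eW : (⊤ : (Spec (CommRingCat.of (Away 𝒜 (φ g)))).Opens) ≤ c ⁻¹ᵁ (e.hom ⁻¹ᵁ Proj.basicOpen ℬ g) := by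
      rw [hpre, ← Proj.opensRange_awayι 𝒜 (φ g) gA md]
      exact fun z _ => ⟨z, rfl⟩
    have hWr : e.hom ⁻¹ᵁ Proj.basicOpen ℬ g ≤ c.opensRange := by
      rw [hpre, ← Proj.opensRange_awayι 𝒜 (φ g) gA md]
    haveI := c.isIso_app _ hWr
    have hinj' : Function.Injective (c.appLE (e.hom ⁻¹ᵁ Proj.basicOpen ℬ g) ⊤ eW) := by
      haveI : IsIso ((Spec (CommRingCat.of (Away 𝒜 (φ g)))).presheaf.map (homOfLE eW).op) := by
        have : (⊤ : (Spec (CommRingCat.of (Away 𝒜 (φ g)))).Opens) = c ⁻¹ᵁ (e.hom ⁻¹ᵁ Proj.basicOpen ℬ g) :=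
          le_antisymm eW le_top
        rw [show homOfLE eW = eqToHom this from Subsingleton.elim _ _, eqToHom_op, eqToHom_map]
        infer_instance
      haveI : IsIso (c.appLE (e.hom ⁻¹ᵁ Proj.basicOpen ℬ g) ⊤ eW) := by
        rw [Scheme.Hom.appLE]; infer_instance
      exact (ConcreteCategory.bijective_of_isIso (c.appLE (e.hom ⁻¹ᵁ Proj.basicOpen ℬ g) ⊤ eW)).1
    refine hinj' ?_
    have eB : (⊤ : (Spec (CommRingCat.of (Away ℬ g))).Opens) ≤ Proj.awayι ℬ g hg hm ⁻¹ᵁ Proj.basicOpen ℬ g := by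
      rw [← Proj.opensRange_awayι ℬ g hg hm]
      exact fun z _ => ⟨z, rfl⟩
    have eA : (⊤ : (Spec (CommRingCat.of (Away 𝒜 (φ g)))).Opens) ≤ c ⁻¹ᵁ Proj.basicOpen 𝒜 (φ g) := by
      rw [← Proj.opensRange_awayι 𝒜 (φ g) gA md]
      exact fun z _ => ⟨z, rfl⟩
    have hr : c.appLE (e.hom ⁻¹ᵁ Proj.basicOpen ℬ g) ⊤ eW ((Proj 𝒜).presheaf.map (homOfLE hpre.le).op
        (Proj.awayToSection 𝒜 (φ g) (ProjGlue.theta φ hφ hg a))) =
        (Scheme.ΓSpecIso _).inv (ProjGlue.theta φ hφ hg a) := by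
      rw [← CommRingCat.comp_apply, Scheme.Hom.map_appLE]
      exact H70.DomMap.awayι_appLE gA md _ eA
    rw [hr, ← Scheme.Hom.appLE_eq_app, ← CommRingCat.comp_apply,
      Scheme.Hom.appLE_comp_appLE c e.hom (Proj.basicOpen ℬ g) _ ⊤ le_rfl eW]
    let σ := Spec.map (CommRingCat.ofHom (ProjGlue.theta φ hφ hg))
    have key' : ∀ (h : Spec (CommRingCat.of (Away 𝒜 (φ g))) ⟶ Proj ℬ) (e' : ⊤ ≤ h ⁻¹ᵁ Proj.basicOpen ℬ g),
        h = σ ≫ Proj.awayι ℬ g hg hm → h.appLE (Proj.basicOpen ℬ g) ⊤ e' (Proj.awayToSection ℬ g a) =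
          (Scheme.ΓSpecIso _).inv (ProjGlue.theta φ hφ hg a) := by
      rintro h e' rfl
      rw [← Scheme.Hom.appLE_comp_appLE σ (Proj.awayι ℬ g hg hm) (Proj.basicOpen ℬ g) ⊤ ⊤ eB (by simp),
        CommRingCat.comp_apply, H70.DomMap.awayι_appLE hg hm a eB]
      erw [Scheme.Hom.appLE_eq_app]
      erw [← CommRingCat.comp_apply, ← Scheme.ΓSpecIso_inv_naturality]
      rfl
    exact key' _ _ (he m g hm hg)
  rw [ha, ← CommRingCat.comp_apply, Scheme.Hom.naturality] at h1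
  have hgA : φ g ∉ p.asHomogeneousIdeal := fun h => hgy ((mem_iff φ hpt p g).2 h)
  have h2 := congrArg (fun t => ((t : Twist.O (𝒜 := 𝒜) (op (e.hom ⁻¹ᵁ Proj.basicOpen ℬ g))).1 ⟨p, hgy⟩).val) h1
  refine h2.trans ?_
  have h3 : ((r : Twist.O (𝒜 := ℬ) (op U)).1 ⟨pt e p, hp⟩) =
      ((Proj.awayToSection ℬ g a : Twist.O (𝒜 := ℬ) (op (Proj.basicOpen ℬ g))).1 ⟨pt e p, hgy⟩) := by
    rw [ha]; rfl
  rw [h3]
  obtain ⟨k, b, hb, rfl⟩ := Away.mk_surjective ℬ hg a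
  have hb' : φ b ∈ 𝒜 (k • (m * d)) := by
    have := hφ _ b hb
    rwa [smul_eq_mul, mul_assoc, ← smul_eq_mul k] at this
  have hth : ProjGlue.theta φ hφ hg (Away.mk ℬ hg k b hb) = Away.mk 𝒜 (hφ m g hg) k (φ b) hb' := by
    refine val_injective _ ?_
    rw [ProjGlue.val_theta, Away.val_mk, Away.val_mk, Localization.mk_eq_mk', Localization.mk_eq_mk']
    simp only [Localization.awayMap, IsLocalization.Away.map, IsLocalization.map_mk', map_pow]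
  rw [hth]
  have hgk : g ^ k ∉ (pt e p).asHomogeneousIdeal := fun h => hgy ((pt e p).isPrime.mem_of_pow_mem k h)
  have hgk' : φ g ^ k ∉ p.asHomogeneousIdeal := fun h => hgA (p.isPrime.mem_of_pow_mem k h)
  refine (ProjTilde.QCoh.val_awayToSection (hφ m g hg) k (φ b) hb' ⟨p, hgA⟩ hgk').trans ?_
  refine Eq.trans ?_ (congrArg (Localization.localRingHom _ _ φ (hpt p))
    (ProjTilde.QCoh.val_awayToSection hg k b hb ⟨pt e p, hgy⟩ hgk).symm)
  rw [Localization.localRingHom_mk]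
  exact congrArg₂ Localization.mk rfl (Subtype.ext (map_pow φ g k).symm)

/-- If `T ≅ f_* F` for an open immersion `f`, then `F ≅ f^* T`. -/
def pullbackIsoOfPush {X Y : Scheme.{u}} (f : X ⟶ Y) [IsOpenImmersion f] {F : X.Modules} {T : Y.Modules}
    (Φ : T ≅ (Scheme.Modules.pushforward f).obj F) : F ≅ (Scheme.Modules.pullback f).obj T :=
  (asIso ((Scheme.Modules.restrictAdjunction f).counit.app F)).symm ≪≫
    (Scheme.Modules.restrictFunctor f).mapIso Φ.symm ≪≫ (Scheme.Modules.restrictFunctorIsoPullback f).app T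

section LocMod

variable {M : Type u} [AddCommGroup M] [Module R M] [Module A M] {ℳ : ℕ → Submodule R M}
  [DirectSum.Decomposition ℳ] [SetLike.GradedSMul 𝒜 ℳ]
variable {N : Type u} [AddCommGroup N] [Module R N] [Module B N] {𝒩 : ℕ → Submodule R N}
  [DirectSum.Decomposition 𝒩] [SetLike.GradedSMul ℬ 𝒩]
variable (v : N →ₛₗ[φ] M)

/-- `t ↦ φ t` on denominators. -/
def den (p : ProjectiveSpectrum 𝒜) (s : (pt e p).asHomogeneousIdeal.toIdeal.primeCompl) :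
    p.asHomogeneousIdeal.toIdeal.primeCompl :=
  ⟨φ s.1, fun h => s.2 ((mem_iff φ hpt p s.1).2 h)⟩

theorem den_mul (p : ProjectiveSpectrum 𝒜) (s t : (pt e p).asHomogeneousIdeal.toIdeal.primeCompl) :
    den φ hpt p (s * t) = den φ hpt p s * den φ hpt p t := Subtype.ext (map_mul φ s.1 t.1)

/-- `a / t ↦ v a / φ t`. -/
def locFun (p : ProjectiveSpectrum 𝒜) (q : GrTilde.LocMod ℬ (M := N) (pt e p)) : GrTilde.LocMod 𝒜 (M := M) p :=
  q.liftOn (fun z => LocalizedModule.mk (v z.1) (den φ hpt p z.2))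
    fun ⟨a, s⟩ ⟨b, t⟩ ⟨u, hu⟩ => by
      rw [LocalizedModule.mk_eq]
      refine ⟨den φ hpt p u, ?_⟩
      simp only [Submonoid.smul_def, den] at hu ⊢
      rw [← v.map_smulₛₗ, ← v.map_smulₛₗ, ← v.map_smulₛₗ, ← v.map_smulₛₗ, hu]

theorem locFun_mk (p : ProjectiveSpectrum 𝒜) (a : N) (s : (pt e p).asHomogeneousIdeal.toIdeal.primeCompl) :
    locFun φ hpt v p (LocalizedModule.mk a s) = LocalizedModule.mk (v a) (den φ hpt p s) := rfl

theorem locFun_add (p : ProjectiveSpectrum 𝒜) (q q' : GrTilde.LocMod ℬ (M := N) (pt e p)) :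
    locFun φ hpt v p (q + q') = locFun φ hpt v p q + locFun φ hpt v p q' := by
  induction q, q' using LocalizedModule.induction_on₂ with
  | h a b s t =>
    rw [LocalizedModule.mk_add_mk, locFun_mk, locFun_mk, locFun_mk, LocalizedModule.mk_add_mk, den_mul]
    simp only [Submonoid.smul_def, map_add, v.map_smulₛₗ]
    rfl

theorem locFun_smul (p : ProjectiveSpectrum 𝒜) (c : Twist.Loc ℬ (pt e p))
    (q : GrTilde.LocMod ℬ (M := N) (pt e p)) :
    locFun φ hpt v p (c • q) = Localization.localRingHom _ _ φ (hpt p) c • locFun φ hpt v p q := by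
  induction q using LocalizedModule.induction_on with
  | h a s =>
    obtain ⟨⟨b, t, ht⟩, rfl⟩ : ∃ z : B × _, Localization.mk z.1 z.2 = c :=
      Localization.induction_on c fun z => ⟨z, rfl⟩
    rw [Localization.localRingHom_mk, LocalizedModule.mk_smul_mk, locFun_mk, locFun_mk, LocalizedModule.mk_smul_mk,
      den_mul, v.map_smulₛₗ]
    rfl

/-- `locFun` as an additive map. -/
def locHom (p : ProjectiveSpectrum 𝒜) :
    GrTilde.LocMod ℬ (M := N) (pt e p) →+ GrTilde.LocMod 𝒜 (M := M) p :=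
  AddMonoidHom.mk' (locFun φ hpt v p) (locFun_add φ hpt v p)

variable (hvmem : ∀ i, ∀ a ∈ 𝒩 i, v a ∈ ℳ (i * d)) (hvsurj : ∀ i, ∀ m ∈ ℳ (i * d), ∃ a ∈ 𝒩 i, v a = m)
  (hvinj : Function.Injective v) (n : ℤ)

include hvmem in
theorem deg_map {k : ℤ} {a : N} (ha : ProjTilde.Frac.Deg 𝒩 k a) :
    ProjTilde.Frac.Deg ℳ (k * d) (v a) := by
  rcases ha with ⟨i, rfl, ha⟩ | rfl
  · exact Or.inl ⟨i * d, by push_cast; rfl, hvmem i a ha⟩
  · exact Or.inr (map_zero v)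

include hd hsurj hvmem hvinj in
theorem eq_zero_of_locFun {p : ProjectiveSpectrum 𝒜} {q : GrTilde.LocMod ℬ (M := N) (pt e p)}
    (hq : q ∈ GrTilde.tildeAt ℬ 𝒩 n (pt e p)) (h : locFun φ hpt v p q = 0) : q = 0 := by
  obtain ⟨j, s, a, hsx, hs, ha, rfl⟩ := ProjTilde.Frac.exists_frac hq
  rw [locFun_mk] at h
  obtain ⟨i, hi, -⟩ := ha.exists_mem
  obtain ⟨k, u, hu, hup, hua⟩ := (ProjTilde.Frac.mk_eq_zero_iff (hvmem i a hi)).1 h
  obtain ⟨w, hw, hwu⟩ := hsurj k (u ^ d) (by rw [mul_comm, ← smul_eq_mul]; exact SetLike.pow_mem_graded d hu)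
  refine (ProjTilde.Frac.mk_eq_zero_iff hi).2 ⟨k, w, hw, fun h => hup ?_, hvinj ?_⟩
  · exact p.isPrime.mem_of_pow_mem d (hwu ▸ (mem_iff φ hpt p w).1 h)
  · rw [v.map_smulₛₗ, map_zero, hwu, ← Nat.sub_one_add_one hd.ne', pow_succ, mul_smul, hua, smul_zero]

include hd hsurj hvmem hvinj in
theorem locFun_injOn {p : ProjectiveSpectrum 𝒜} {q q' : GrTilde.LocMod ℬ (M := N) (pt e p)}
    (hq : q ∈ GrTilde.tildeAt ℬ 𝒩 n (pt e p)) (hq' : q' ∈ GrTilde.tildeAt ℬ 𝒩 n (pt e p))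
    (h : locFun φ hpt v p q = locFun φ hpt v p q') : q = q' :=
  sub_eq_zero.1 (eq_zero_of_locFun φ hd hsurj hpt v hvmem hvinj n (Submodule.sub_mem _ hq hq')
    ((map_sub (locHom φ hpt v p) q q').trans (sub_eq_zero.2 h)))

include hd hsurj hvsurj in
theorem exists_frac_eq {U : Opens (ProjectiveSpectrum.top 𝒜)} (σ : GrTilde.sect 𝒜 ℳ (n * d) (op U)) (x : U) :
    ∃ (j : ℕ) (w : B) (c : N), w ∈ ℬ j ∧ ProjTilde.Frac.Deg 𝒩 (j + n) c ∧
      w ∉ (pt e x.1).asHomogeneousIdeal ∧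
      ∀ (y : U) (hy : w ∉ (pt e y.1).asHomogeneousIdeal),
        locFun φ hpt v y.1 (LocalizedModule.mk c ⟨w, hy⟩) = ProjTilde.Frac.val σ y := by
  obtain ⟨j, t, a, ht, ha, htx, hrep⟩ := ProjTilde.Frac.exists_local_rep σ x
  obtain ⟨w, hw, hwt⟩ := hsurj j (t ^ d) (by rw [mul_comm, ← smul_eq_mul]; exact SetLike.pow_mem_graded d ht)
  have hta : t ^ (d - 1) ∈ 𝒜 ((d - 1) * j) := by
    rw [← smul_eq_mul]; exact SetLike.pow_mem_graded (d - 1) ht
  have hdeg : ProjTilde.Frac.Deg ℳ (((j : ℤ) + n) * d) (t ^ (d - 1) • a) :=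
    (ha.smul hta).congr (by
      have : ((d - 1 : ℕ) : ℤ) = (d : ℤ) - 1 := by omega
      push_cast [this]; ring)
  obtain ⟨c, hc, hcv⟩ : ∃ c, ProjTilde.Frac.Deg 𝒩 ((j : ℤ) + n) c ∧ v c = t ^ (d - 1) • a := by
    rcases hdeg with ⟨i, hi, hm⟩ | h0
    · have h0' : (0 : ℤ) ≤ (j : ℤ) + n := by
        by_contra hneg
        have : ((j : ℤ) + n) * d < 0 := mul_neg_of_neg_of_pos (by omega) (by exact_mod_cast hd)
        omega
      obtain ⟨m, hm'⟩ := Int.eq_ofNat_of_zero_le h0'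
      obtain rfl : i = m * d := by
        rw [hm'] at hi
        exact_mod_cast hi
      obtain ⟨c, hc, hcv⟩ := hvsurj m _ hm
      exact ⟨c, Or.inl ⟨m, hm'.symm, hc⟩, hcv⟩
    · exact ⟨0, ProjTilde.Frac.Deg.zero _, by rw [map_zero, h0]⟩
  refine ⟨j, w, c, hw, hc, fun h => htx (x.1.isPrime.mem_of_pow_mem d (hwt ▸ (mem_iff φ hpt x.1 w).1 h)),
    fun y hy => ?_⟩
  have hty : t ∉ y.1.asHomogeneousIdeal := fun h => hy ((mem_iff φ hpt y.1 w).2
    (hwt ▸ Ideal.pow_mem_of_mem _ h d hd))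
  refine (locFun_mk φ hpt v y.1 c ⟨w, hy⟩).trans (Eq.trans ?_ (hrep y hty).symm)
  rw [LocalizedModule.mk_eq]
  refine ⟨1, ?_⟩
  simp only [one_smul, Submonoid.smul_def, den]
  rw [hcv, smul_smul, hwt, ← pow_succ', Nat.sub_one_add_one hd.ne']

include hφ hvmem in
theorem locFun_rep (U : Opens (ProjectiveSpectrum.top ℬ)) (σ : GrTilde.sect ℬ 𝒩 n (op U)) (x : preU e U) :
    ∃ (j : ℕ) (s : A) (a : M), s ∈ 𝒜 j ∧ ProjTilde.Frac.Deg ℳ (j + n * d) a ∧ s ∉ x.1.asHomogeneousIdeal ∧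
      ∀ (y : preU e U) (hy : s ∉ y.1.asHomogeneousIdeal),
        locFun φ hpt v y.1 (ProjTilde.Frac.val σ (⟨pt e y.1, y.2⟩ : U)) = LocalizedModule.mk a ⟨s, hy⟩ := by
  obtain ⟨j, t, a, ht, ha, htx, hrep⟩ := ProjTilde.Frac.exists_local_rep σ (⟨pt e x.1, x.2⟩ : U)
  refine ⟨j * d, φ t, v a, hφ j t ht, (deg_map φ v hvmem ha).congr (by push_cast; ring),
    fun h => htx ((mem_iff φ hpt x.1 t).2 h), fun y hy => ?_⟩
  have hy' : t ∉ (pt e y.1).asHomogeneousIdeal := fun h => hy ((mem_iff φ hpt y.1 t).1 h)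
  rw [hrep (⟨pt e y.1, y.2⟩ : U) hy']
  exact locFun_mk φ hpt v y.1 a ⟨t, hy'⟩

/-- The map on sections, as a function. -/
def toPushFun (U : Opens (ProjectiveSpectrum.top ℬ)) (σ : GrTilde.sect ℬ 𝒩 n (op U)) :
    GrTilde.sect 𝒜 ℳ (n * d) (op (preU e U)) :=
  ProjTilde.Basic.secOfRep (fun x => locFun φ hpt v x.1 (ProjTilde.Frac.val σ (⟨pt e x.1, x.2⟩ : U)))
    (locFun_rep φ hφ hpt v hvmem n U σ)

theorem val_toPushFun (U : Opens (ProjectiveSpectrum.top ℬ)) (σ : GrTilde.sect ℬ 𝒩 n (op U)) (x : preU e U) :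
    ProjTilde.Frac.val (toPushFun φ hφ hpt v hvmem n U σ) x =
      locFun φ hpt v x.1 (ProjTilde.Frac.val σ (⟨pt e x.1, x.2⟩ : U)) := rfl

theorem toPushFun_add (U : Opens (ProjectiveSpectrum.top ℬ)) (σ τ : GrTilde.sect ℬ 𝒩 n (op U)) :
    toPushFun (e := e) φ hφ hpt v hvmem n U (σ + τ) =
      toPushFun φ hφ hpt v hvmem n U σ + toPushFun φ hφ hpt v hvmem n U τ :=
  ProjTilde.Frac.sect_ext fun x => by
    rw [ProjTilde.Basic.val_add, val_toPushFun, val_toPushFun, val_toPushFun, ProjTilde.Basic.val_add]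
    exact locFun_add φ hpt v x.1 _ _

/-- The map on sections. -/
def toPush (U : Opens (ProjectiveSpectrum.top ℬ)) :
    GrTilde.sect ℬ 𝒩 n (op U) →+ GrTilde.sect 𝒜 ℳ (n * d) (op (preU e U)) :=
  AddMonoidHom.mk' (toPushFun φ hφ hpt v hvmem n U) (toPushFun_add φ hφ hpt v hvmem n U)

theorem val_toPush (U : Opens (ProjectiveSpectrum.top ℬ)) (σ : GrTilde.sect ℬ 𝒩 n (op U)) (x : (preU e U)) :
    ProjTilde.Frac.val (toPush φ hφ hpt v hvmem n U σ) x =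
      locFun φ hpt v x.1 (ProjTilde.Frac.val σ ⟨pt e x.1, x.2⟩) := rfl

include hd hsurj hvinj in
theorem val_eq_zero_of_toPush (U : Opens (ProjectiveSpectrum.top ℬ)) (σ : GrTilde.sect ℬ 𝒩 n (op U))
    (hσ : toPush (e := e) φ hφ hpt v hvmem n U σ = 0) (x : preU e U) :
    ProjTilde.Frac.val σ (⟨pt e x.1, x.2⟩ : U) = 0 := by
  have h1 : ProjTilde.Frac.val (toPush (e := e) φ hφ hpt v hvmem n U σ) x = 0 := by
    rw [hσ]; exact ProjTilde.Basic.val_zero x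
  rw [val_toPush] at h1
  have h2 : ProjTilde.Frac.val σ (⟨pt e x.1, x.2⟩ : U) ∈ GrTilde.tildeAt ℬ 𝒩 n (pt e x.1) :=
    (σ.1 (⟨pt e x.1, x.2⟩ : U)).2
  exact eq_zero_of_locFun φ hd hsurj hpt v hvmem hvinj n h2 h1

set_option maxHeartbeats 1000000 in
include hd hsurj hvsurj hvinj in
theorem toPush_bijective (U : Opens (ProjectiveSpectrum.top ℬ)) : Function.Bijective (toPush φ hφ hpt v hvmem n U) := by
  have hpre : ∀ z : U, ∃ x : (preU e U), pt e x.1 = z.1 := fun z =>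
    have h : e.hom (e.inv (z.1 : Proj ℬ)) = (z.1 : Proj ℬ) :=
      congrArg (fun f : Proj ℬ ⟶ Proj ℬ => f (z.1 : Proj ℬ)) e.inv_hom_id
    ⟨⟨e.inv (z.1 : Proj ℬ), (show e.hom (e.inv (z.1 : Proj ℬ)) ∈ U from h.symm ▸ z.2)⟩, h⟩
  constructor
  · rw [injective_iff_map_eq_zero]
    intro σ hσ
    refine ProjTilde.Frac.sect_ext fun z => ?_
    obtain ⟨x, hx⟩ := hpre z
    obtain rfl : (⟨pt e x.1, x.2⟩ : U) = z := Subtype.ext hx
    exact (val_eq_zero_of_toPush φ hφ hd hsurj hpt v hvmem hvinj n U σ hσ x).trans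
      (ProjTilde.Basic.val_zero _).symm
  intro τ
  choose j w c hw hc hwx hrep using fun x => exists_frac_eq φ hd hsurj hpt v hvsurj n τ x
  choose pre hpre using hpre
  have hloc : ∀ (x y : (preU e U)) (hy : w x ∉ (pt e y.1).asHomogeneousIdeal),
      (LocalizedModule.mk (c y) ⟨w y, hwx y⟩ : GrTilde.LocMod ℬ (M := N) (pt e y.1)) =
        LocalizedModule.mk (c x) ⟨w x, hy⟩ := by
    intro x y hy
    exact locFun_injOn φ hd hsurj hpt v hvmem hvinj n (ProjTilde.Frac.frac_mem_tildeAt (hw y) _ (hc y))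
      (ProjTilde.Frac.frac_mem_tildeAt (hw x) _ (hc x)) ((hrep y y (hwx y)).trans (hrep x y hy).symm)
  let val' : ∀ z : U, GrTilde.LocMod ℬ (M := N) z.1 := fun z =>
    LocalizedModule.mk (c (pre z)) ⟨w (pre z), hpre z ▸ hwx (pre z)⟩
  have hval : ∀ (x : (preU e U)) (z : U) (hz : w x ∉ z.1.asHomogeneousIdeal),
      val' z = LocalizedModule.mk (c x) ⟨w x, hz⟩ := by
    intro x z hz
    obtain ⟨y, hy⟩ : ∃ y, pre z = y := ⟨_, rfl⟩
    have hyz := hpre z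
    obtain ⟨z, hzU⟩ := z
    rw [hy] at hyz
    subst hyz
    simp only [val', hy]
    exact hloc x y hz
  refine ⟨ProjTilde.Basic.secOfRep val' fun z => ⟨j (pre z), w (pre z), c (pre z), hw _, hc _,
    hpre z ▸ hwx (pre z), fun z' hz' => hval _ z' hz'⟩, ProjTilde.Frac.sect_ext fun x => ?_⟩
  exact (congrArg (locFun φ hpt v x.1) (hval x ⟨pt e x.1, x.2⟩ (hwx x))).trans (hrep x x (hwx x))

set_option maxHeartbeats 1000000 in
include hφ hd hsurj hinj he hvmem hvsurj hvinj in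
/-- `M(nd)~ ≅ i^* M^{(d)}(n)~`. -/
theorem nonempty_iso :
    Nonempty (GrTilde.tilde 𝒜 ℳ (n * d) ≅ (Scheme.Modules.pullback e.hom).obj (GrTilde.tilde ℬ 𝒩 n)) := by
  have hpt : ∀ p : ProjectiveSpectrum 𝒜,
      (pt e p).asHomogeneousIdeal.toIdeal = p.asHomogeneousIdeal.toIdeal.comap φ :=
    ideal_eq φ hφ hd hsurj hinj he
  let Φ : GrTilde.tilde ℬ 𝒩 n ≅ (Scheme.Modules.pushforward e.hom).obj (GrTilde.tilde 𝒜 ℳ (n * d)) :=
    ProjTilde.Hom.isoMk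
      (fun U => AddEquiv.ofBijective (toPush φ hφ hpt v hvmem n U)
        (toPush_bijective φ hφ hd hsurj hpt v hvmem hvsurj hvinj n U))
      (fun U r σ => ProjTilde.Frac.sect_ext fun x => by
        refine Eq.trans ?_ (ProjTilde.Basic.val_smul (e.hom.app U r : Twist.O (𝒜 := 𝒜) (op (e.hom ⁻¹ᵁ U)))
          (toPush φ hφ hpt v hvmem n U σ) x).symm
        rw [val_app φ hφ hd he hpt r x.1 x.2]
        exact (congrArg (locFun φ hpt v x.1) (ProjTilde.Basic.val_smul r σ _)).trans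
          (locFun_smul φ hpt v x.1 _ _))
      (fun U V h σ => ProjTilde.Frac.sect_ext fun x => rfl)
  exact ⟨pullbackIsoOfPush e.hom Φ⟩

end LocMod

end Groth.Agent.Lib.Veronese33
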